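import Groth.Agent.CAlgSmall.FPExtend
import Groth.Agent.SubAvoid14.Avoid
import Groth.Agent.TorShLib.Basic
import Groth.Agent.Coherent.ProjSpaceFinite
import Groth.Agent.OmegaLib.StalkLocal

/-!
# Torsion-free covers of coherent modules on Noetherian integral schemes
-/

set_option autoImplicit false
set_option linter.style.haveILetI false
set_option backward.isDefEq.respectTransparency false
set_option maxHeartbeats 1000000

universe u

open CategoryTheory CategoryTheory.Limits AlgebraicGeometry Opposite TopologicalSpace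
open Groth.Agent.Coherent

namespace Groth.Agent.TFCover8

attribute [local instance] hasFiniteBiproducts

variable {X : Scheme.{u}}

/-- A seed which is free of rank one on the affine open. -/
theorem exists_seed_free [CompactSpace X] [QuasiSeparatedSpace X] (F : X.Modules) [Coh.IsQCoh F]
    (V : X.affineOpens) (s : Γ(F, V.1)) :
    ∃ (G : X.Modules) (φ : G ⟶ F) (a : Γ(G, V.1)) (_ : G.restrict V.1.ι ≅ Coh.structureModule V.1.toScheme),
      CohB1.IsFP G ∧ φ.app V.1 a = s := by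
  let U := V.1
  let O := Coh.structureModule U.toScheme
  obtain ⟨φ₀, hφ₀⟩ := RelVALib.exists_hom_of_affine O (F.restrict U.ι)
    (fun W _ => show Γ(U.toScheme, W) →+ Γ(F.restrict U.ι, W) from AddMonoidHom.mk' (fun r : Γ(U.toScheme, W) =>
      r • (show Γ(F.restrict U.ι, W) from resM F (U.ι_image_le W) s)) fun r r' => add_smul r r' _)
    (fun W _ r (x : Γ(U.toScheme, W)) => mul_smul r x _)
    (fun W W' _ _ h (x : Γ(U.toScheme, W)) => by
      refine Eq.trans ?_ (resM_smul (F.restrict U.ι) h x _).symm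
      refine congrArg (fun z : Γ(F.restrict U.ι, W') => (U.toScheme.presheaf.map (homOfLE h).op x) • z) ?_
      exact (resM_resM F (U.ι_image_le W) (U.ι.image_mono h) s).symm)
  obtain ⟨G, φ, e, hG, he⟩ := CAlgSmall.FPExtend.exists_extension F U V.2.isCompact O
    (EGA43.FibDepth.isFP_structureModule _) φ₀
  have : IsAffine U.toScheme := V.2
  have hle : U ≤ U.ι ''ᵁ ⊤ := U.ι_image_top.ge
  let b : Γ(G.restrict U.ι, ⊤) := e.inv.app ⊤ (show Γ(O, ⊤) from (1 : Γ(U.toScheme, ⊤)))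
  refine ⟨G, φ, resM G hle b, e, hG, ?_⟩
  have h1 : φ.app (U.ι ''ᵁ ⊤) b = resM F (U.ι_image_le ⊤) s := by
    show ((Scheme.Modules.restrictFunctor U.ι).map φ).app ⊤ b = _
    rw [← he]
    show φ₀.app ⊤ (e.hom.app ⊤ (e.inv.app ⊤ _)) = _
    have h2 : e.hom.app ⊤ (e.inv.app ⊤ (show Γ(O, ⊤) from (1 : Γ(U.toScheme, ⊤)))) = (1 : Γ(U.toScheme, ⊤)) :=
      Coherent.Existence.app_congr e.inv_hom_id ⊤ _
    rw [h2, hφ₀ ⊤ (isAffineOpen_top _)]
    exact one_smul _ _
  rw [app_resM, h1, resM_resM]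
  exact resM_refl F s

variable [IsNoetherian X] [IsIntegral X]

/-- A module free of rank one on `U`, made to have no associated points off `U`, is torsion-free. -/
theorem isTorsionFree_avoid {U : X.Opens} (G : X.Modules) (hG : Coh.IsCoh G)
    (e : G.restrict U.ι ≅ Coh.structureModule U.toScheme) :
    TorSh.IsTorsionFree (SubAvoid14.avoidMod G hG (U : Set X)ᶜ) := by
  let N := SubAvoid14.avoidMod G hG (U : Set X)ᶜ
  let ι := SubAvoid14.avoidι G hG (U : Set X)ᶜ
  haveI : Coh.IsQCoh N := SubAvoid14.isQCoh_avoidMod G hG _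
  refine TorShLib.isTorsionFree_of_sections _ fun V a t x _ ha hat => ?_
  refine TorShLib.sec_ext N t fun z hz => ?_
  obtain ⟨W, hW, hzW, hWV⟩ := exists_isAffineOpen_mem_and_subset (x := z) (U := V) hz
  have hle : W ≤ V := fun w hw => hWV hw
  rw [← TopCat.Presheaf.germ_res_apply N.presheaf (homOfLE hle) z hzW t]
  suffices h : resM N hle t = 0 by
    change N.presheaf.germ W z hzW (resM N hle t) = 0
    rw [h, map_zero]
  refine AssSch12.eq_zero_of_germ_ass (M := N) hW _ fun y hy hya => ?_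
  have hyU : y ∈ U := by
    by_contra h
    exact SubAvoid14.notMem_ass_avoidMod G hG _ (show y ∈ (U : Set X)ᶜ from h) hya
  let O : U.toScheme.Opens := U.ι ⁻¹ᵁ W
  have hyO : y ∈ U.ι ''ᵁ O := ⟨⟨y, hyU⟩, hy, rfl⟩
  have hOW : U.ι ''ᵁ O ≤ W := by
    rintro _ ⟨w, hw, rfl⟩
    exact hw
  rw [← TopCat.Presheaf.germ_res_apply N.presheaf (homOfLE hOW) y hyO (resM N hle t)]
  suffices h : resM N hOW (resM N hle t) = 0 by
    change N.presheaf.germ _ y hyO (resM N hOW (resM N hle t)) = 0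
    rw [h, map_zero]
  rw [resM_resM]
  let a' : Γ(X, U.ι ''ᵁ O) := X.presheaf.map (homOfLE (hOW.trans hle)).op a
  have ha' : a' ≠ 0 := fun h => ha (TorShLib.eq_zero_of_germ a (x := y) (hle hy) (by
    rw [← TopCat.Presheaf.germ_res_apply X.presheaf (homOfLE (hOW.trans hle)) y hyO a]
    exact (congrArg _ h).trans (map_zero _)))
  have h1 : a' • ι.app _ (resM N (hOW.trans hle) t) = 0 := by
    rw [← Scheme.Modules.Hom.app_smul, ← resM_smul, hat, map_zero, map_zero]
  haveI : Nonempty (U.ι ''ᵁ O) := ⟨⟨y, hyO⟩⟩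
  let u : Γ(G.restrict U.ι, O) := ι.app (U.ι ''ᵁ O) (resM N (hOW.trans hle) t)
  have h2 : (a' : Γ(X, U.ι ''ᵁ O)) * (show Γ(X, U.ι ''ᵁ O) from e.hom.app O u) = 0 := by
    have h3 : (show Γ(U.toScheme, O) from a') • u = 0 := by
      refine (Scheme.Modules.smul_restrictAppIso_hom_apply U.ι G O _ u).trans ?_
      rw [Scheme.Opens.ι_appIso]
      exact h1
    have h4 := congrArg (e.hom.app O) h3
    rw [Scheme.Modules.Hom.app_smul, map_zero] at h4
    exact h4
  have hu : e.hom.app O u = 0 := (mul_eq_zero.1 h2).resolve_left ha'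
  refine (SubAvoid14.avoid G hG (U : Set X)ᶜ).toι_injective _ ?_
  rw [map_zero]
  have h5 := congrArg (e.inv.app O) hu
  rw [map_zero] at h5
  exact (Coherent.Existence.app_congr e.hom_inv_id O u).symm.trans h5

/-- Each section on an affine open comes from a torsion-free coherent module. -/
theorem exists_tf_seed (F : X.Modules) [Coh.IsQCoh F] (V : X.affineOpens) (s : Γ(F, V.1)) :
    ∃ (N : X.Modules) (φ : N ⟶ F) (a : Γ(N, V.1)), Coh.IsCoh N ∧ TorSh.IsTorsionFree N ∧ φ.app V.1 a = s := by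
  obtain ⟨G, φ, b, e, hG, hb⟩ := exists_seed_free F V s
  have hGc : Coh.IsCoh G := ⟨CAlgSmall.FPExtend.isQCoh_of_isFP G hG, CAlgSmall.FPExtend.isFT_of_isFP G hG⟩
  obtain ⟨a, ha⟩ := (SubAvoid14.bijective_avoidι_app G hGc (V.1 : Set X)ᶜ
    (disjoint_compl_right (a := (V.1 : Set X)))).2 b
  refine ⟨_, SubAvoid14.avoidι G hGc _ ≫ φ, a, SubAvoid14.isCoh_avoidMod G hGc _,
    isTorsionFree_avoid G hGc e, ?_⟩
  show φ.app V.1 ((SubAvoid14.avoidι G hGc _).app V.1 a) = s
  rw [ha, hb]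

theorem isTorsionFree_biproduct {ι : Type} [Fintype ι] (N : ι → X.Modules) (h : ∀ i, TorSh.IsTorsionFree (N i)) :
    TorSh.IsTorsionFree (⨁ N) :=
  TorShLib.isTorsionFree_of_sections _ fun V a t x _ ha hat => by
    rw [← biproduct_sections_total N V t]
    refine Finset.sum_eq_zero fun i _ => ?_
    have h0 : (biproduct.π N i).app V t = 0 :=
      TorShLib.eq_zero_of_smul (h i) a _ ha (by rw [← Scheme.Modules.Hom.app_smul, hat, map_zero])
    rw [h0, map_zero]

/-- Every coherent module is a quotient of a torsion-free coherent one. -/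
theorem exists_tf_cover (F : X.Modules) (hF : Coh.IsCoh F) :
    ∃ (N : X.Modules) (π : N ⟶ F), Coh.IsCoh N ∧ TorSh.IsTorsionFree N ∧ Epi π := by
  classical
  haveI := hF.1
  have hfin := ((isCoh_iff_finite_sections F).1 hF).2
  choose W hW hxW using fun x : X => exists_isAffineOpen_mem_and_subset (x := x) (U := ⊤) trivial
  obtain ⟨c, hc⟩ := isCompact_univ.elim_finite_subcover (fun x => (W x : Set X)) (fun x => (W x).isOpen)
    fun x _ => Set.mem_iUnion.2 ⟨x, (hxW x).1⟩
  choose g hg using fun x : c => (hfin (W x.1) (hW x.1)).fg_top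
  obtain ⟨n, ⟨eqv⟩⟩ := Finite.exists_equiv_fin (Σ x : c, {s // s ∈ g x})
  choose N φ a hN hTF ha using fun k : Fin n =>
    exists_tf_seed F ⟨W (eqv.symm k).1.1, hW _⟩ (eqv.symm k).2.1
  refine ⟨⨁ N, biproduct.desc φ, isCoh_biproduct N hN, isTorsionFree_biproduct N hTF, ?_⟩
  refine OmegaLib.epi_of_stalks_surjective _ fun y v => ?_
  obtain ⟨x, hx, hyx⟩ := Set.mem_iUnion₂.1 (hc (Set.mem_univ y))
  obtain ⟨f, m, hf, hfm⟩ := QCohLoc.exists_smul_stalk_eq_germ F (hW x) hyx v
  have hm : ∀ m ∈ Submodule.span Γ(X, W x) (g ⟨x, hx⟩ : Set Γ(F, W x)),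
      ∃ w, (biproduct.desc φ).app (W x) w = m := by
    intro m hm
    induction hm using Submodule.span_induction with
    | mem s hs =>
      obtain ⟨k, hk⟩ := eqv.symm.surjective ⟨⟨x, hx⟩, ⟨s, hs⟩⟩
      have key : ∀ {p : Σ z : c, {s // s ∈ g z}}, p = ⟨⟨x, hx⟩, ⟨s, hs⟩⟩ →
          ∀ {M : X.Modules} (ψ : M ⟶ F) (q : Γ(M, W p.1.1)), ψ.app (W p.1.1) q = p.2.1 →
            ∃ q' : Γ(M, W x), ψ.app (W x) q' = s := by
        rintro p rfl M ψ q hq
        exact ⟨q, hq⟩
      obtain ⟨q, hq⟩ := key hk (φ k) (a k) (ha k)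
      refine ⟨(biproduct.ι N k).app _ q, ?_⟩
      show ((biproduct.ι N k) ≫ biproduct.desc φ).app _ q = s
      rw [biproduct.ι_desc, hq]
    | zero => exact ⟨0, map_zero _⟩
    | add m m' _ _ h h' =>
      obtain ⟨w, rfl⟩ := h
      obtain ⟨w', rfl⟩ := h'
      exact ⟨w + w', map_add _ _ _⟩
    | smul r m _ h =>
      obtain ⟨w, rfl⟩ := h
      exact ⟨r • w, Scheme.Modules.Hom.app_smul _ _ _⟩
  obtain ⟨w, hw⟩ := hm m (by rw [hg ⟨x, hx⟩]; trivial)
  obtain ⟨r, hr⟩ := ((Scheme.mem_basicOpen _ _ _ hyx).1 hf).exists_left_inv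
  refine ⟨r • (⨁ N).presheaf.germ (W x) y hyx w, ?_⟩
  rw [map_smul]
  refine (congrArg (r • ·) ((stalk_map_germ (biproduct.desc φ) hyx w).trans (congrArg _ hw))).trans ?_
  show r • F.presheaf.germ (W x) y hyx m = v
  rw [← hfm, smul_smul, hr]
  exact one_smul _ _

end Groth.Agent.TFCover8
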